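import Cfsg.Agent.Lib.BC77.CyclicCentPair.Pair
import Cfsg.Agent.Lib.Alternating.Aut

/-!
# Commuting involutions with cyclic centralisers on a group with dihedral Sylow 2-subgroups

The statement S1916, with the Gorenstein–Walter theorem for perfect groups as a hypothesis.
-/

set_option autoImplicit false

universe u

namespace Cfsg.Agent.Lib.BC77.CyclicCentPair

open Subgroup Equiv

/-- A simple group with dihedral Sylow 2-subgroups, given Gorenstein–Walter. -/
theorem gw_simple (hGW : QuatCyclic.GWPerfect.{u}) {L : Type u} [Group L] [Finite L] [IsSimpleGroup L]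
    (hnc : ¬ ∀ a b : L, a * b = b * a) (S : Sylow 2 L) {m : ℕ}
    (eS : ↥(S : Subgroup L) ≃* DihedralGroup m) :
    (∃ (F : Type) (_ : Field F) (_ : Fintype F), Odd (Fintype.card F) ∧ 3 < Fintype.card F ∧
        Nonempty (L ≃* Matrix.ProjectiveSpecialLinearGroup (Fin 2) F)) ∨
      Nonempty (L ≃* alternatingGroup (Fin 7)) := by
  classical
  haveI : Fact (Nat.Prime 2) := ⟨Nat.prime_two⟩
  haveI : Group.IsPerfect L := ⟨by
    rcases (inferInstance : (_root_.commutator L).Normal).eq_bot_or_eq_top with h | h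
    · exact (hnc fun a b => by
        have := Subgroup.commutator_mem_commutator (mem_top a) (mem_top b)
        rw [← commutator_def, h, mem_bot] at this
        exact commutatorElement_eq_one_iff_mul_comm.1 this).elim
    · exact h⟩
  have hc : Nat.card (S : Subgroup L) = 2 * m := by
    rw [Nat.card_congr eS.toEquiv, DihedralGroup.nat_card]
  have hpos : 0 < Nat.card (S : Subgroup L) := Nat.card_pos
  have heven : 2 ∣ Nat.card L := (hc ▸ dvd_mul_right 2 m).trans (card_subgroup_dvd_card _)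
  have hm : 2 ≤ m := by
    by_contra hlt2
    have hm1 : m = 1 := by omega
    haveI : IsCyclic (S : Subgroup L) := isCyclic_of_prime_card (p := 2) (by rw [hc, hm1])
    have hmin : (Nat.card L).minFac = 2 := (Nat.minFac_eq_two_iff _).2 heven
    have hle := IsCyclic.normalizer_le_centralizer (P := S) hmin inferInstance
    have hcomp := MonoidHom.ker_transferSylow_isComplement' S hle
    rcases (inferInstance : (MonoidHom.transferSylow S hle).ker.Normal).eq_bot_or_eq_top with h | h
    · rw [h] at hcomp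
      have htop : (S : Subgroup L) = ⊤ := isComplement'_bot_left.1 hcomp
      letI := IsCyclic.commGroup (α := (S : Subgroup L))
      exact hnc fun a b =>
        congrArg Subtype.val (mul_comm (⟨a, htop ▸ mem_top a⟩ : (S : Subgroup L)) ⟨b, htop ▸ mem_top b⟩)
    · rw [h] at hcomp
      have hbot : (S : Subgroup L) = ⊥ := isComplement'_top_left.1 hcomp
      rw [hbot, card_bot] at hc
      omega
  have hodd : Cfsg.oddCore L = ⊥ := by
    rcases (inferInstance : (Cfsg.oddCore L).Normal).eq_bot_or_eq_top with h | h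
    · exact h
    · have := Cores.oddCore_odd (G := L)
      rw [h, card_top] at this
      exact absurd heven (by rw [Nat.odd_iff] at this; omega)
  have eq0 : L ≃* L ⧸ Cfsg.oddCore L :=
    ((QuotientGroup.quotientMulEquivOfEq hodd).trans QuotientGroup.quotientBot).symm
  rcases hGW S m hm ⟨eS⟩ with ⟨F, iF, iF', hF, hF3, ⟨e⟩⟩ | he7
  · exact Or.inl ⟨F, iF, iF', hF, hF3, ⟨eq0.trans e⟩⟩
  · obtain ⟨e⟩ := he7
    exact Or.inr ⟨eq0.trans e⟩

/-- An involutory automorphism of `A₇` fixes a four-group. -/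
theorem hasFour_alt_seven (α : MulAut (alternatingGroup (Fin 7))) (hα : α * α = 1) : HasFour α := by
  obtain ⟨σ, hσ⟩ := Alternating.exists_conj_eq (α := Fin 7) (by simp) (by simp) α
  have hσ2 : σ * σ = 1 := by
    apply Alternating.conjNormal_injective (α := Fin 7) (by simp)
    have h : α = MulAut.conjNormal σ := MulEquiv.ext fun x => Subtype.ext (by
      rw [hσ, MulAut.conjNormal_apply])
    rw [map_mul, ← h, hα, map_one]
  have pair : ∀ (τ v w : Perm (Fin 7)), IsConj τ σ →
      (v ∈ alternatingGroup (Fin 7) ∧ w ∈ alternatingGroup (Fin 7) ∧ v ^ 2 = 1 ∧ w ^ 2 = 1 ∧ v ≠ 1 ∧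
        w ≠ 1 ∧ v ≠ w ∧ v * w = w * v ∧ τ * v * τ⁻¹ = v ∧ τ * w * τ⁻¹ = w) → HasFour α := by
    rintro τ v w hconj ⟨hv, hw, hv2, hw2, hv1, hw1, hne, hvw, hfv, hfw⟩
    obtain ⟨c, hc⟩ := isConj_iff.1 hconj
    haveI : Fact (Nat.Prime 2) := ⟨Nat.prime_two⟩
    have hmem : ∀ {z : Perm (Fin 7)}, z ∈ alternatingGroup (Fin 7) → c * z * c⁻¹ ∈ alternatingGroup (Fin 7) :=
      fun hz => (alternatingGroup.normal).conj_mem _ hz c
    have hfix : ∀ {z : Perm (Fin 7)} (hz : z ∈ alternatingGroup (Fin 7)), τ * z * τ⁻¹ = z →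
        α ⟨c * z * c⁻¹, hmem hz⟩ = ⟨c * z * c⁻¹, hmem hz⟩ := by
      intro z hz hfz
      refine Subtype.ext ?_
      rw [hσ, ← hc]
      calc c * τ * c⁻¹ * (c * z * c⁻¹) * (c * τ * c⁻¹)⁻¹ = c * (τ * z * τ⁻¹) * c⁻¹ := by group
        _ = c * z * c⁻¹ := by rw [hfz]
    have hord : ∀ {z : Perm (Fin 7)} (hz : z ∈ alternatingGroup (Fin 7)), z ^ 2 = 1 → z ≠ 1 →
        orderOf (⟨c * z * c⁻¹, hmem hz⟩ : alternatingGroup (Fin 7)) = 2 := by
      intro z hz h2 h1
      rw [Subgroup.orderOf_mk, ← MulAut.conj_apply, MulEquiv.orderOf_eq]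
      exact orderOf_eq_prime h2 h1
    refine ⟨⟨c * v * c⁻¹, hmem hv⟩, ⟨c * w * c⁻¹, hmem hw⟩, hord hv hv2 hv1, hord hw hw2 hw1,
      fun h => hne ?_, Subtype.ext ?_, hfix hv hfv, hfix hw hfw⟩
    · simpa using congrArg Subtype.val h
    · show c * v * c⁻¹ * (c * w * c⁻¹) = c * w * c⁻¹ * (c * v * c⁻¹)
      calc c * v * c⁻¹ * (c * w * c⁻¹) = c * (v * w) * c⁻¹ := by group
        _ = c * (w * v) * c⁻¹ := by rw [hvw]
        _ = _ := by group
  by_cases h1 : σ = 1
  · exact pair 1 (swap 0 1 * swap 2 3) (swap 0 2 * swap 1 3) (by rw [h1])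
      (by simp only [Equiv.Perm.mem_alternatingGroup]; decide +kernel)
  haveI : Fact (Nat.Prime 2) := ⟨Nat.prime_two⟩
  have hord : orderOf σ = 2 := orderOf_eq_prime (by rw [pow_two]; exact hσ2) h1
  obtain ⟨n, hn⟩ := Equiv.Perm.cycleType_prime_order (σ := σ) (hord ▸ Nat.prime_two)
  rw [hord] at hn
  have hle : n < 3 := by
    have h := Equiv.Perm.sum_cycleType σ
    rw [hn, Multiset.sum_replicate] at h
    have h7 := Finset.card_le_univ σ.support
    rw [Fintype.card_fin] at h7
    simp at h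
    omega
  have conj : ∀ τ : Perm (Fin 7), τ.cycleType = Multiset.replicate (n + 1) 2 → IsConj τ σ := fun τ hτ =>
    Equiv.Perm.isConj_iff_cycleType_eq.2 (hτ.trans hn.symm)
  interval_cases n
  · exact pair (swap 0 1) (swap 2 3 * swap 4 5) (swap 2 4 * swap 3 5) (conj _ (by decide +kernel))
      (by simp only [Equiv.Perm.mem_alternatingGroup]; decide +kernel)
  · exact pair (swap 0 1 * swap 2 3) (swap 0 1 * swap 2 3) (swap 0 2 * swap 1 3)
      (conj _ (by decide +kernel))
      (by simp only [Equiv.Perm.mem_alternatingGroup]; decide +kernel)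
  · exact pair (swap 0 1 * swap 2 3 * swap 4 5) (swap 0 1 * swap 2 3) (swap 0 1 * swap 4 5)
      (conj _ (by decide +kernel))
      (by simp only [Equiv.Perm.mem_alternatingGroup]; decide +kernel)

/-- A group with cyclic Sylow 2-subgroups has no four-group. -/
theorem not_four {C : Type*} [Group C] [Finite C] (hC : ∀ R : Sylow 2 C, IsCyclic R) {v w : C}
    (hv : orderOf v = 2) (hw : orderOf w = 2) (hne : v ≠ w) (hc : Commute v w) : False := by
  haveI : Fact (Nat.Prime 2) := ⟨Nat.prime_two⟩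
  have hpv : IsPGroup 2 (zpowers v) := IsPGroup.of_card (n := 1) (by rw [Nat.card_zpowers, hv, pow_one])
  have hpw : IsPGroup 2 (zpowers w) := IsPGroup.of_card (n := 1) (by rw [Nat.card_zpowers, hw, pow_one])
  have hle : zpowers w ≤ normalizer (zpowers v : Set C) := zpowers_le.2
    (DicksonId.mem_normalizer_zpowers (by
      rw [← hc.eq, mul_inv_cancel_right]
      exact mem_zpowers v))
  obtain ⟨R, hR⟩ := (hpv.to_sup_of_normal_left' hpw hle).exists_le_sylow
  haveI := hC R
  have hvR : v ∈ (R : Subgroup C) := hR (mem_sup_left (mem_zpowers v))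
  have hwR : w ∈ (R : Subgroup C) := hR (mem_sup_right (mem_zpowers w))
  have h2 : 2 ∣ Nat.card (R : Subgroup C) := by
    have h := orderOf_dvd_natCard (⟨v, hvR⟩ : (R : Subgroup C))
    rwa [Subgroup.orderOf_mk, hv] at h
  classical
  letI := Fintype.ofFinite (R : Subgroup C)
  rw [Nat.card_eq_fintype_card] at h2
  have hcard := IsCyclic.card_orderOf_eq_totient (α := (R : Subgroup C)) h2
  have hsub : ({(⟨v, hvR⟩ : (R : Subgroup C)), ⟨w, hwR⟩} : Finset (R : Subgroup C)) ⊆
      Finset.univ.filter (fun a => orderOf a = 2) := by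
    intro a ha
    simp only [Finset.mem_insert, Finset.mem_singleton] at ha
    rcases ha with rfl | rfl <;> simp [hv, hw]
  have := Finset.card_le_card hsub
  rw [hcard, Finset.card_pair (fun h => hne (congrArg Subtype.val h)), Nat.totient_two] at this
  omega

/-- The statement S1916, given Gorenstein–Walter for perfect groups. -/
theorem main (hGW : QuatCyclic.GWPerfect.{u}) {G : Type u} [Group G] [Finite G] (L : Subgroup G)
    (hL : IsSimpleGroup L) (hLn : ¬ IsMulCommutative L)
    (hD : ∀ P : Sylow 2 L, ∃ n : ℕ, Nonempty (↥(P : Subgroup L) ≃* DihedralGroup n))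
    (a b : G) (ha : orderOf a = 2) (hb : orderOf b = 2) (hc : a * b = b * a)
    (haL : a ∈ normalizer (L : Set G)) (hbL : b ∈ normalizer (L : Set G))
    (hCa : ∀ R : Sylow 2 ↥(L ⊓ centralizer ({a} : Set G)), IsCyclic R)
    (hCb : ∀ R : Sylow 2 ↥(L ⊓ centralizer ({b} : Set G)), IsCyclic R)
    (hgen : ¬ L ≤ closure ({a, b} : Set G) ⊔ (L ⊓ centralizer ({a} : Set G)) ⊔
      (L ⊓ centralizer ({b} : Set G))) :
    a * b ∈ centralizer (L : Set G) := by
  classical
  haveI := hL
  haveI : Fact (Nat.Prime 2) := ⟨Nat.prime_two⟩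
  have hnc : ¬ ∀ x y : L, x * y = y * x := fun h => hLn ⟨⟨h⟩⟩
  set A := L.normalizerMonoidHom ⟨a, haL⟩ with hA
  set B := L.normalizerMonoidHom ⟨b, hbL⟩ with hB
  have hval : ∀ (c : G) (hcN : c ∈ normalizer (L : Set G)) (z : L),
      ((L.normalizerMonoidHom ⟨c, hcN⟩ z : L) : G) = c * z * c⁻¹ := fun _ _ _ => rfl
  have hsq : ∀ (c : G) (hcN : c ∈ normalizer (L : Set G)), orderOf c = 2 →
      L.normalizerMonoidHom ⟨c, hcN⟩ * L.normalizerMonoidHom ⟨c, hcN⟩ = 1 := by
    intro c hcN hc2
    rw [← map_mul, show (⟨c, hcN⟩ : normalizer (L : Set G)) * ⟨c, hcN⟩ = 1 from Subtype.ext (by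
      show c * c = 1
      rw [← pow_two, ← hc2, pow_orderOf_eq_one]), map_one]
  have hno : ∀ (c : G) (hcN : c ∈ normalizer (L : Set G)),
      (∀ R : Sylow 2 ↥(L ⊓ centralizer ({c} : Set G)), IsCyclic R) →
      ¬ HasFour (L.normalizerMonoidHom ⟨c, hcN⟩) := by
    rintro c hcN hC ⟨v, w, hv, hw, hne, hvw, hfv, hfw⟩
    have hmem : ∀ {z : L}, L.normalizerMonoidHom ⟨c, hcN⟩ z = z → (z : G) ∈ L ⊓ centralizer ({c} : Set G) := by
      intro z hz
      refine ⟨z.2, mem_centralizer_singleton_iff.2 ?_⟩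
      have h := (hval c hcN z).symm.trans (congrArg Subtype.val hz)
      calc (z : G) * c = c * z * c⁻¹ * c := by rw [h]
        _ = c * z := by group
    refine not_four hC (v := ⟨v, hmem hfv⟩) (w := ⟨w, hmem hfw⟩) ?_ ?_ ?_ (Subtype.ext ?_)
    · rw [Subgroup.orderOf_mk, Subgroup.orderOf_coe, hv]
    · rw [Subgroup.orderOf_mk, Subgroup.orderOf_coe, hw]
    · exact fun h => hne (Subtype.ext (congrArg (fun q : ↥(L ⊓ centralizer ({c} : Set G)) => (q : G)) h))
    · show (v : G) * w = w * v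
      exact congrArg Subtype.val hvw.eq
  suffices hab : A * B = 1 by
    refine mem_centralizer_iff.2 fun z hz => ?_
    have h := congrArg Subtype.val (DFunLike.congr_fun hab ⟨z, hz⟩)
    rw [hA, hB, ← map_mul, MulAut.one_apply] at h
    have h' : a * b * z * (a * b)⁻¹ = z := h
    calc z * (a * b) = a * b * z * (a * b)⁻¹ * (a * b) := by rw [h']
      _ = a * b * z := by group
  by_contra hne
  have hcomm : Commute A B := by
    show A * B = B * A
    rw [hA, hB, ← map_mul, ← map_mul]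
    exact congrArg _ (Subtype.ext hc)
  have hAno := hno a haL hCa
  have hBno := hno b hbL hCb
  obtain ⟨m, ⟨eS⟩⟩ := hD (default : Sylow 2 L)
  rcases gw_simple hGW hnc (default : Sylow 2 L) eS with ⟨F, _, _, hFodd, hF3, ⟨e⟩⟩ | he
  swap
  · obtain ⟨e⟩ := he
    have h := hasFour_alt_seven (MulAut.congr e A) (by rw [← map_mul, hsq a haL ha, map_one])
    obtain ⟨v, w, hv, hw, hne', hvw, hfv, hfw⟩ := h
    refine hAno ⟨e.symm v, e.symm w, by rw [MulEquiv.orderOf_eq, hv], by rw [MulEquiv.orderOf_eq, hw],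
      fun h => hne' (e.symm.injective h), hvw.map e.symm.toMonoidHom, ?_, ?_⟩
    · apply e.injective; rw [MulEquiv.apply_symm_apply]; exact hfv
    · apply e.injective; rw [MulEquiv.apply_symm_apply]; exact hfw
  obtain ⟨p, hchar⟩ := CharP.exists F
  haveI : Fact p.Prime := ⟨CharP.char_is_prime F p⟩
  have hp2 : p ≠ 2 := by
    rintro rfl
    obtain ⟨f, hf, hq⟩ := Linear.exists_card_eq_pow (F := F) 2
    rw [hq] at hFodd
    exact (Nat.not_even_iff_odd.2 hFodd) ((even_two).pow_of_ne_zero hf.ne')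
  have back : ∀ {α : MulAut L}, HasFour (MulAut.congr e α) → HasFour α := by
    rintro α ⟨v, w, hv, hw, hne', hvw, hfv, hfw⟩
    refine ⟨e.symm v, e.symm w, by rw [MulEquiv.orderOf_eq, hv], by rw [MulEquiv.orderOf_eq, hw],
      fun h => hne' (e.symm.injective h), hvw.map e.symm.toMonoidHom, ?_, ?_⟩
    · apply e.injective; rw [MulEquiv.apply_symm_apply]; exact hfv
    · apply e.injective; rw [MulEquiv.apply_symm_apply]; exact hfw
  set X := closure ({a, b} : Set G) ⊔ (L ⊓ centralizer ({a} : Set G)) ⊔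
    (L ⊓ centralizer ({b} : Set G))
  have hin : ∀ (c : G) (hcN : c ∈ normalizer (L : Set G)), L ⊓ centralizer ({c} : Set G) ≤ X →
      ∀ z, MulAut.congr e (L.normalizerMonoidHom ⟨c, hcN⟩) z = z →
        z ∈ (X.subgroupOf L).map e.toMonoidHom := by
    intro c hcN hle z hz
    refine ⟨e.symm z, hle ⟨(e.symm z).2, mem_centralizer_singleton_iff.2 ?_⟩, e.apply_symm_apply z⟩
    have h : L.normalizerMonoidHom ⟨c, hcN⟩ (e.symm z) = e.symm z :=
      e.injective (by rw [MulEquiv.apply_symm_apply]; exact hz)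
    have h' := (hval c hcN (e.symm z)).symm.trans (congrArg Subtype.val h)
    calc (e.symm z : G) * c = c * (e.symm z : G) * c⁻¹ * c := by rw [h']
      _ = c * (e.symm z : G) := by group
  have htop := eq_top_of_pair (p := p) hp2 (by rw [Nat.odd_iff] at hFodd; omega)
    (α := MulAut.congr e A) (β := MulAut.congr e B)
    (by rw [← map_mul, hsq a haL ha, map_one]) (by rw [← map_mul, hsq b hbL hb, map_one])
    (hcomm.map (MulAut.congr e).toMonoidHom) (fun h => hAno (back h)) (fun h => hBno (back h))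
    (fun h => hne ((MulAut.congr e).injective (by rw [map_mul, h, map_one])))
    (hin a haL (le_sup_right.trans le_sup_left)) (hin b hbL le_sup_right)
  refine hgen fun z hz => ?_
  have hmem : e ⟨z, hz⟩ ∈ (X.subgroupOf L).map e.toMonoidHom := htop ▸ mem_top _
  obtain ⟨y, hy, hye⟩ := hmem
  obtain rfl : y = ⟨z, hz⟩ := e.injective hye
  exact hy

end Cfsg.Agent.Lib.BC77.CyclicCentPair
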