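import Cfsg.Agent.Lib.BC77.CyclicCentPair.Torus
import Cfsg.Agent.Lib.BC77.DihedralOvergroup

/-!
# Two commuting involutory automorphisms of `PSL₂(q)` fixing no four-group

The subgroups they fix generate `PSL₂(q)` unless the automorphisms are equal.
-/

set_option autoImplicit false

namespace Cfsg.Agent.Lib.BC77.CyclicCentPair

open Matrix Subgroup Cfsg.Agent.Lib.AutPSL Cfsg.Agent.Lib.DicksonId

set_option synthInstance.maxSize 2000 in
theorem perm_four_pair : ∀ u x : Equiv.Perm (Fin 4), u * x * u⁻¹ = x⁻¹ → u ^ 2 = 1 → x ^ 3 = 1 →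
    ∀ x' : Equiv.Perm (Fin 4), x' ^ 3 = 1 → u * x' * u⁻¹ = x'⁻¹ → x * x' ≠ x' * x →
    ¬ ((x * x') ^ 2 = 1 ↔ (x * x'⁻¹) ^ 2 = 1) := by
  decide +kernel

set_option synthInstance.maxSize 2000 in
theorem alt_five_pair : ∀ u : alternatingGroup (Fin 5), u ^ 2 = 1 →
    ∀ x : alternatingGroup (Fin 5), x ^ 5 = 1 → u * x * u⁻¹ = x⁻¹ →
    ∀ x' : alternatingGroup (Fin 5), x' ^ 5 = 1 → u * x' * u⁻¹ = x'⁻¹ → x * x' ≠ x' * x →
    ¬ ((x * x') ^ 3 = 1 ↔ (x * x'⁻¹) ^ 3 = 1) := by
  decide +kernel

variable {F : Type} [Field F] [Fintype F] {p : ℕ} [hp : Fact p.Prime] [CharP F p]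

local notation "SL2" => Matrix.SpecialLinearGroup (Fin 2) F
local notation "M2" => Matrix (Fin 2) (Fin 2) F
local notation "PSL2" => Matrix.ProjectiveSpecialLinearGroup (Fin 2) F

/-- The facts about the torus fixed by such an automorphism. -/
theorem exists_torus_data (hp2 : p ≠ 2) (h5 : 5 ≤ Fintype.card F) {α : MulAut PSL2}
    (hα : α * α = 1) (hno : ¬ HasFour α) :
    ∃ y : PSL2, orderOf y = oddHalf (Fintype.card F) ∧ α y = y ∧
      (∀ z : PSL2, Commute y z → α z = z) ∧
      ∀ u : PSL2, orderOf u = 2 → α u = u → u * y * u⁻¹ = y⁻¹ := by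
  obtain ⟨g, rfl, htr, hdet⟩ := exists_gl_of_not_hasFour hp2 hα hno
  obtain ⟨Y, a, b, hY, hb, hord⟩ := exists_fixed_torus hp2 h5 htr hdet
  have h2 : (2 : F) ≠ 0 := two_ne_zero_of_char (p := p) hp2
  set q := Fintype.card F with hq
  have hodd : q % 2 = 1 := by
    obtain ⟨f, hf, hq'⟩ := Linear.exists_card_eq_pow (F := F) p
    rw [hq, hq']
    exact Nat.odd_iff.mp (hp.out.odd_of_ne_two hp2).pow
  have hk3 : 3 ≤ oddHalf q := by unfold oddHalf; split_ifs <;> omega
  have hk2 : oddHalf q % 2 = 1 := by unfold oddHalf; split_ifs <;> omega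
  have hmul : ∀ Z : SL2, (g : M2) * (Z : M2) = (Z : M2) * (g : M2) →
      conjAut g (Z : PSL2) = (Z : PSL2) := by
    intro Z hZ
    rw [AutPSL.conjAut_mk]
    congr 1
    refine Subtype.ext ?_
    rw [coe_conjSL, hZ, Matrix.mul_assoc, Units.mul_inv, Matrix.mul_one]
  have hgY : (g : M2) * (Y : M2) = (Y : M2) * (g : M2) := by
    rw [hY, Matrix.mul_add, Matrix.add_mul, Matrix.mul_smul, Matrix.smul_mul, Matrix.mul_smul,
      Matrix.smul_mul, Matrix.mul_one, Matrix.one_mul]
  have hYtr : Matrix.trace (Y : M2) = 2 * a := by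
    rw [hY, Matrix.trace_add, Matrix.trace_smul, Matrix.trace_smul, htr, Matrix.trace_one]
    simp [mul_comm]
  have ha : a ≠ 0 := by
    intro ha
    rw [ha, mul_zero] at hYtr
    have h1 : (Y : PSL2) ^ 2 = 1 := by
      rw [← QuotientGroup.mk_pow, QuotientGroup.eq_one_iff]
      refine (DicksonFull.mem_center_iff_smul _).mpr ⟨-1, ?_⟩
      rw [Matrix.SpecialLinearGroup.coe_pow, pow_two, Linear.sl2_mul_self, hYtr, zero_smul, zero_sub,
        neg_one_smul]
    have := Nat.le_of_dvd two_pos (orderOf_dvd_of_pow_eq_one h1)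
    omega
  have hcomm : ∀ z : PSL2, Commute (Y : PSL2) z → conjAut g z = z := by
    intro z hz
    obtain ⟨Z, rfl⟩ := QuotientGroup.mk_surjective z
    obtain ⟨c, hc⟩ := (AutPSL.mk_eq_mk_iff (Y * Z) (Z * Y)).mp
      (by rw [QuotientGroup.mk_mul, QuotientGroup.mk_mul]; exact hz.eq)
    rw [Matrix.SpecialLinearGroup.coe_mul, Matrix.SpecialLinearGroup.coe_mul] at hc
    -- conjugation preserves the trace, so the scalar is `1`
    have hc' : (((Z * Y * Z⁻¹ : SL2)) : M2) = c • (Y : M2) := by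
      rw [Matrix.SpecialLinearGroup.coe_mul, Matrix.SpecialLinearGroup.coe_mul, hc, Matrix.smul_mul,
        Matrix.mul_assoc, ← Matrix.SpecialLinearGroup.coe_mul, mul_inv_cancel,
        Matrix.SpecialLinearGroup.coe_one, Matrix.mul_one]
    have htc := congrArg Matrix.trace hc'
    rw [← slTr_eq, PSLTwo.Sylow.slTr_conj, slTr_eq, Matrix.trace_smul, smul_eq_mul, hYtr] at htc
    have hc1 : c = 1 := by
      apply mul_right_cancel₀ (mul_ne_zero h2 ha)
      linear_combination (-1) * htc
    rw [hc1, one_smul, hY, Matrix.mul_add, Matrix.add_mul, Matrix.mul_smul, Matrix.smul_mul,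
      Matrix.mul_smul, Matrix.smul_mul, Matrix.mul_one, Matrix.one_mul, add_right_inj] at hc
    exact hmul Z ((smul_right_injective M2 hb) hc).symm
  refine ⟨(Y : PSL2), hord, hmul Y hgY, hcomm, fun u hu hfix => ?_⟩
  obtain ⟨U, rfl⟩ := QuotientGroup.mk_surjective u
  rw [AutPSL.conjAut_mk] at hfix
  obtain ⟨c, hc⟩ := (AutPSL.mk_eq_mk_iff _ _).mp hfix
  rw [coe_conjSL] at hc
  have hUg : (U : M2) * (g : M2) = c • ((g : M2) * (U : M2)) := by
    calc (U : M2) * (g : M2)
        = (c • ((g : M2) * (U : M2) * ((g⁻¹ : GL (Fin 2) F) : M2))) * (g : M2) := by rw [← hc]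
      _ = c • ((g : M2) * (U : M2)) := by
        rw [Matrix.smul_mul, Matrix.mul_assoc, Units.inv_mul, Matrix.mul_one]
  have hc2 : c * c = 1 := by
    have := congrArg Matrix.det hUg
    rw [Matrix.det_smul, Fintype.card_fin, Matrix.det_mul, Matrix.det_mul, U.det_coe] at this
    apply mul_right_cancel₀ (GeneralLinearGroup.det_ne_zero g)
    linear_combination (-1) * this
  rcases mul_self_eq_one_iff.mp hc2 with rfl | rfl
  · -- an involution centralising the torus
    exfalso
    rw [one_smul] at hUg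
    have hUY : Commute (Y : PSL2) (U : PSL2) := by
      show (Y : PSL2) * (U : PSL2) = (U : PSL2) * (Y : PSL2)
      rw [← QuotientGroup.mk_mul, ← QuotientGroup.mk_mul]
      congr 1
      refine Subtype.ext ?_
      rw [Matrix.SpecialLinearGroup.coe_mul, Matrix.SpecialLinearGroup.coe_mul, hY, Matrix.mul_add,
        Matrix.add_mul, Matrix.mul_smul, Matrix.smul_mul, Matrix.mul_smul, Matrix.smul_mul,
        Matrix.mul_one, Matrix.one_mul, hUg]
    have hyu : orderOf ((Y : PSL2) * (U : PSL2)) = oddHalf q * 2 := by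
      rw [hUY.orderOf_mul_eq_mul_orderOf_of_coprime (by
        rw [hord, hu]; exact (Nat.coprime_two_right).mpr (Nat.odd_iff.mpr hk2)), hord, hu]
    have hcases := RecogThree.PSL2Orders.orderOf_cases p ((Y : PSL2) * (U : PSL2))
    rw [hyu, dd_eq_gcd (p := p), gcd_two_eq (p := p), if_neg hp2, ← hq] at hcases
    rcases hcases with h | h | h
    · rcases (Nat.dvd_prime hp.out).mp h with e | e
      · omega
      · have := (hp.out.odd_of_ne_two hp2)
        rw [← e] at this
        exact Nat.not_even_iff_odd.mpr this ⟨oddHalf q, by omega⟩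
    all_goals
      obtain ⟨j, hj⟩ := h
      rcases j with _ | _ | j
      · omega
      · unfold oddHalf at hj hk3 hk2
        split_ifs at hj hk3 hk2 with h4 <;> omega
      · have : oddHalf q * 4 ≤ oddHalf q * 2 * (j + 1 + 1) := by
          rw [mul_assoc]; exact Nat.mul_le_mul_left _ (by omega)
        unfold oddHalf at hj hk3 this
        split_ifs at hj hk3 this <;> omega
  · rw [← QuotientGroup.mk_inv, ← QuotientGroup.mk_mul, ← QuotientGroup.mk_mul, ← QuotientGroup.mk_inv]
    congr 1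
    rw [eq_inv_iff_mul_eq_one, ← eq_inv_iff_mul_eq_one, mul_inv_eq_iff_eq_mul]
    refine Subtype.ext ?_
    have hinv : ((Y⁻¹ : SL2) : M2) = a • (1 : M2) - b • (g : M2) := by
      have h11 : (g : M2) 1 1 = -(g : M2) 0 0 := by
        rw [Matrix.trace_fin_two] at htr
        linear_combination htr
      rw [Matrix.SpecialLinearGroup.coe_inv, hY, Matrix.adjugate_fin_two]
      ext i j
      fin_cases i <;> fin_cases j <;> simp [h11, sub_eq_add_neg]
    rw [Matrix.SpecialLinearGroup.coe_mul, Matrix.SpecialLinearGroup.coe_mul, hinv, hY, Matrix.mul_add,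
      Matrix.mul_smul, Matrix.mul_smul, hUg, Matrix.sub_mul, Matrix.smul_mul, Matrix.smul_mul,
      Matrix.mul_one, Matrix.one_mul, neg_one_smul, smul_neg, ← sub_eq_add_neg]

/-- Two commuting involutory automorphisms fixing no four-group: their fixed points generate. -/
theorem eq_top_of_pair (hp2 : p ≠ 2) (h5 : 5 ≤ Fintype.card F) {α β : MulAut PSL2}
    (hα : α * α = 1) (hβ : β * β = 1) (hc : Commute α β) (hαno : ¬ HasFour α) (hβno : ¬ HasFour β)
    (hne : α * β ≠ 1) {K : Subgroup PSL2} (hKα : ∀ z, α z = z → z ∈ K)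
    (hKβ : ∀ z, β z = z → z ∈ K) : K = ⊤ := by
  set q := Fintype.card F with hqdef
  obtain ⟨f, hf, hqp⟩ := Linear.exists_card_eq_pow (F := F) p
  have hodd : q % 2 = 1 := (show q = p ^ f from hqp) ▸ Nat.odd_iff.mp (hp.out.odd_of_ne_two hp2).pow
  have h2 : (2 : F) ≠ 0 := two_ne_zero_of_char (p := p) hp2
  set k := oddHalf q with hkdef
  have hkq : (q % 4 = 1 ∧ 2 * k = q + 1) ∨ (q % 4 = 3 ∧ 2 * k = q - 1) := by
    rw [hkdef]; unfold oddHalf; split_ifs <;> omega
  have hk3 : 3 ≤ k := by omega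
  have hk2 : k % 2 = 1 := by omega
  obtain ⟨x, hx, hαx, hαc, hαinv⟩ := exists_torus_data hp2 h5 hα hαno
  obtain ⟨x', hx', hβx', -, hβinv⟩ := exists_torus_data hp2 h5 hβ hβno
  -- `α β` is inner
  obtain ⟨g, hg, -, hgd⟩ := exists_gl_of_not_hasFour hp2 hα hαno
  obtain ⟨g', hg', -, hgd'⟩ := exists_gl_of_not_hasFour hp2 hβ hβno
  obtain ⟨u, hu⟩ : ∃ u : PSL2, α * β = MulAut.conj u := by
    obtain ⟨s, hs⟩ := not_isSquare_mul_iff h2 (GeneralLinearGroup.det_ne_zero g)
      (GeneralLinearGroup.det_ne_zero g') hgd hgd'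
    have hs0 : s ≠ 0 := fun h => mul_ne_zero (GeneralLinearGroup.det_ne_zero g)
      (GeneralLinearGroup.det_ne_zero g') (by rw [hs, h, zero_mul])
    let U : SL2 := ⟨s⁻¹ • ((g : M2) * (g' : M2)), by
      rw [Matrix.det_smul, Fintype.card_fin, Matrix.det_mul, hs]; field_simp⟩
    refine ⟨U, ?_⟩
    rw [hg, hg', ← map_mul]
    have hU : g * g' = GeneralLinearGroup.scalar (Fin 2) (Units.mk0 s hs0) *
        Matrix.SpecialLinearGroup.toGL U := by
      refine Units.ext ?_
      rw [Units.val_mul, Units.val_mul]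
      have : ((GeneralLinearGroup.scalar (Fin 2) (Units.mk0 s hs0) : GL (Fin 2) F) : M2) = s • (1 : M2) := by
        ext i j; fin_cases i <;> fin_cases j <;> simp
      rw [this, Matrix.smul_mul, one_mul]
      show _ = s • (s⁻¹ • ((g : M2) * (g' : M2)))
      rw [smul_smul, mul_inv_cancel₀ hs0, one_smul]
    rw [hU, map_mul, conjAut_scalar, one_mul, conjAut_toGL]
  have hαu' : α = MulAut.conj u * β := by rw [← hu, mul_assoc, hβ, mul_one]
  have hu2 : MulAut.conj (u * u) = (1 : MulAut PSL2) := by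
    rw [map_mul, ← hu, mul_assoc, ← mul_assoc β, ← hc.eq, mul_assoc α β β, hβ, mul_one, hα]
  have hinjconj : Function.Injective (MulAut.conj : PSL2 →* MulAut PSL2) := by
    refine (injective_iff_map_eq_one _).2 fun z hz => ?_
    haveI : IsSimpleGroup PSL2 := isSimple (by omega)
    have hzc : z ∈ center PSL2 := mem_center_iff.2 fun a => by
      have := DFunLike.congr_fun hz a
      rw [MulAut.conj_apply, MulAut.one_apply] at this
      calc a * z = z * a * z⁻¹ * z := by rw [this]
        _ = z * a := by group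
    rcases (inferInstance : (center PSL2).Normal).eq_bot_or_eq_top with h | h
    · rw [h, mem_bot] at hzc; exact hzc
    · obtain ⟨a, b, hab⟩ := Linear.exists_not_commute_PSL (F := F) (ι := Fin 2)
        (Linear.commutator_SL_eq_top le_rfl fun _ => by rw [Nat.card_eq_fintype_card]; omega)
      exact absurd (mem_center_iff.1 (h ▸ mem_top b) a) hab
  have hu1 : orderOf u = 2 := by
    refine orderOf_eq_prime ?_ fun h => hne (by rw [hu, h, map_one])
    rw [pow_two]
    exact hinjconj (by rw [hu2, map_one])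
  have hαu : α u = u := by
    have h : MulAut.conj (α u) = MulAut.conj u := by
      rw [show MulAut.conj (α u) = α * MulAut.conj u * α⁻¹ from MulEquiv.ext fun z => by
        simp [MulAut.mul_apply, MulAut.conj_apply], ← hu, ← mul_assoc, hα, one_mul,
        show α⁻¹ = α from inv_eq_of_mul_eq_one_right hα, ← hc.eq]
    exact hinjconj h
  have hβu : β u = u := by
    have := hαu
    rw [hαu', MulAut.mul_apply, MulAut.conj_apply] at this
    calc β u = u⁻¹ * (u * β u * u⁻¹) * u := by group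
      _ = u := by rw [this]; group
  have hux := hαinv u hu1 hαu
  have hux' := hβinv u hu1 hβu
  have hαx' : α x' = x'⁻¹ := by rw [hαu', MulAut.mul_apply, hβx', MulAut.conj_apply, hux']
  have hncomm : ¬ Commute x x' := fun h => by
    have h1 := hαc x' h
    rw [hαx'] at h1
    exact DihedralOvergroup.inv_ne_self hx' hk3 h1
  have hne' := DihedralOvergroup.inv_ne_self hx hk3
  have hxK := hKα x hαx
  have hx'K := hKβ x' hβx'
  have huK := hKα u hαu
  have hKd : 2 * k ∣ Nat.card K := (show orderOf x = k from hx) ▸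
    DihedralOvergroup.two_mul_orderOf_dvd hxK huK hux hne'
  have hpk : ¬ p ∣ k := by
    intro hd
    have h1 : p ∣ q := (show q = p ^ f from hqp) ▸ dvd_pow_self p hf.ne'
    rcases hkq with ⟨-, e⟩ | ⟨-, e⟩
    · exact hp.out.not_dvd_one ((Nat.dvd_add_right h1).mp (e ▸ hd.mul_left 2))
    · have := Nat.dvd_sub h1 (e ▸ hd.mul_left 2)
      rw [Nat.sub_sub_self (by omega)] at this
      exact hp.out.not_dvd_one this
  -- the images of `x, x', u` in an isomorphic copy of `K`
  have key : ∀ {H : Type} [Group H] (i : K →* H), Function.Injective i →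
      ∃ a b c : H, orderOf a = k ∧ orderOf b = k ∧ c ^ 2 = 1 ∧ c * a * c⁻¹ = a⁻¹ ∧
        c * b * c⁻¹ = b⁻¹ ∧ a * b ≠ b * a ∧
        ∀ n : ℕ, (a * b) ^ n = 1 ↔ (a * b⁻¹) ^ n = 1 := by
    intro H _ i hi
    refine ⟨i ⟨x, hxK⟩, i ⟨x', hx'K⟩, i ⟨u, huK⟩, ?_, ?_, ?_, ?_, ?_, ?_, fun n => ?_⟩
    · rw [orderOf_injective i hi, Subgroup.orderOf_mk, hx]
    · rw [orderOf_injective i hi, Subgroup.orderOf_mk, hx']
    · rw [← map_pow, show (⟨u, huK⟩ : K) ^ 2 = 1 from
        Subtype.ext (orderOf_dvd_iff_pow_eq_one.mp hu1.dvd), map_one]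
    · rw [← map_inv, ← map_inv, ← map_mul, ← map_mul]; exact congrArg i (Subtype.ext hux)
    · rw [← map_inv, ← map_inv, ← map_mul, ← map_mul]; exact congrArg i (Subtype.ext hux')
    · intro h
      rw [← map_mul, ← map_mul] at h
      exact hncomm (congrArg Subtype.val (hi h))
    · rw [← map_mul, ← map_inv, ← map_mul, ← map_pow, ← map_pow, ← map_one i, hi.eq_iff, hi.eq_iff,
        Subtype.ext_iff, Subtype.ext_iff]
      simp only [SubmonoidClass.coe_pow, Subgroup.coe_mul, Subgroup.coe_inv, Subgroup.coe_one]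
      rw [← (map_eq_one_iff α α.injective (x := (x * x') ^ n)), map_pow, map_mul, hαx, hαx']
  rcases classify (p := p) K with ⟨hcy, -⟩ | ⟨j, -, -, ⟨e⟩⟩ | ⟨P, hP⟩ | ⟨-, ⟨e⟩⟩ |
    ⟨-, ⟨e⟩⟩ | ⟨-, ⟨e⟩⟩ | ⟨j, hS⟩
  · letI := hcy.commGroup
    exact absurd (congrArg Subtype.val (mul_comm (⟨x, hxK⟩ : K) ⟨x', hx'K⟩)) hncomm
  · exfalso
    obtain ⟨a, b, -, ha, hb, -, -, -, hab, -⟩ := key e.toMonoidHom e.injective
    cases a with
    | sr i => rw [DihedralGroup.orderOf_sr] at ha; omega
    | r i => cases b with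
      | sr i' => rw [DihedralGroup.orderOf_sr] at hb; omega
      | r i' => exact hab (by rw [DihedralGroup.r_mul_r, DihedralGroup.r_mul_r, add_comm])
  · exfalso
    have h1 := card_normalizer_sylow P
    rw [← hqdef, gcd_two_eq (p := p), if_neg hp2] at h1
    have h2 : 2 * (2 * k) ∣ q * (q - 1) :=
      h1 ▸ Nat.mul_dvd_mul_left 2 (hKd.trans (card_dvd_of_le hP))
    rcases hkq with ⟨-, e⟩ | ⟨-, e⟩ <;> rw [e] at h2
    · have h3 : q + 1 ∣ q * (q - 1) := (Dvd.intro_left 2 rfl).trans h2
      have h4 : q * (q - 1) + q * 2 = q * (q + 1) := by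
        rw [← Nat.mul_add]; congr 1; omega
      have h5 : q + 1 ∣ q * 2 :=
        (Nat.dvd_add_right h3).mp (h4 ▸ Dvd.intro_left q rfl)
      have h6 : q + 1 ∣ 2 := by
        refine Nat.Coprime.dvd_of_dvd_mul_left ?_ h5
        simp
      have := Nat.le_of_dvd two_pos h6
      omega
    · have h3 : 2 ∣ q := Nat.dvd_of_mul_dvd_mul_right (show 0 < q - 1 by omega) h2
      omega
  · exfalso
    obtain ⟨a, b, c, ha, hb, hc2, hca, hcb, hab, hn⟩ :=
      key ((alternatingGroup (Fin 4)).subtype.comp e.toMonoidHom)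
        (Subtype.val_injective.comp e.injective)
    have hk5 : k ≤ 5 := ha ▸ DihedralOvergroup.orderOf_perm_four a
    have hd := orderOf_dvd_natCard a
    rw [Nat.card_perm, Nat.card_fin, ha] at hd
    rcases (show k = 3 ∨ k = 5 by omega) with rfl' | rfl'
    · rw [rfl'] at ha hb
      exact perm_four_pair c a hca hc2 (orderOf_dvd_iff_pow_eq_one.mp ha.dvd) b
        (orderOf_dvd_iff_pow_eq_one.mp hb.dvd) hcb hab (hn 2)
    · rw [rfl'] at hd; norm_num [Nat.factorial] at hd
  · exfalso
    obtain ⟨a, b, c, ha, hb, hc2, hca, hcb, hab, hn⟩ := key e.toMonoidHom e.injective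
    have hk5 : k ≤ 5 := ha ▸ DihedralOvergroup.orderOf_perm_four a
    have hd := orderOf_dvd_natCard a
    rw [Nat.card_perm, Nat.card_fin, ha] at hd
    rcases (show k = 3 ∨ k = 5 by omega) with rfl' | rfl'
    · rw [rfl'] at ha hb
      exact perm_four_pair c a hca hc2 (orderOf_dvd_iff_pow_eq_one.mp ha.dvd) b
        (orderOf_dvd_iff_pow_eq_one.mp hb.dvd) hcb hab (hn 2)
    · rw [rfl'] at hd; norm_num [Nat.factorial] at hd
  · obtain ⟨a, b, c, ha, hb, hc2, hca, hcb, hab, hn⟩ := key e.toMonoidHom e.injective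
    have hk5 : k ≤ 5 := ha ▸ DihedralOvergroup.orderOf_alt_five a
    rcases (show k = 3 ∨ k = 5 by omega) with rfl' | rfl'
    · have hG := two_mul_card_PSL (F := F) hp2
      have hK60 : Nat.card K = 60 := card_of_equiv_alt_five ⟨e⟩
      have hdvd := Subgroup.card_subgroup_dvd_card K
      rw [← hqdef] at hG
      rcases (show q = 5 ∨ q = 7 by omega) with e5 | e5 <;> rw [e5] at hG <;> norm_num at hG
      · exact eq_top_of_card_eq K (by omega)
      · rw [hK60] at hdvd
        omega
    · exfalso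
      rw [rfl'] at ha hb
      exact alt_five_pair c hc2 a (orderOf_dvd_iff_pow_eq_one.mp ha.dvd) hca b
        (orderOf_dvd_iff_pow_eq_one.mp hb.dvd) hcb hab (hn 3)
  · obtain ⟨r, hr, hiso⟩ := hS.nonempty_equiv
    obtain ⟨hj, hj3, -⟩ := hS
    letI : Fintype (GaloisField p j) := Fintype.ofFinite _
    set q0 := p ^ j with hq0
    rw [GaloisField.card p j hj.ne', ← hq0, ← hqdef] at hr
    have hcard0 : Fintype.card (GaloisField p j) = q0 := by
      rw [← Nat.card_eq_fintype_card, GaloisField.card p j hj.ne']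
    have hodd0 : q0 % 2 = 1 := Nat.odd_iff.mp (hp.out.odd_of_ne_two hp2).pow
    have hr1 : r = 1 := by
      by_contra hr1
      have hr2 : 2 ≤ r := by
        rcases Nat.eq_zero_or_pos r with rfl | h
        · rw [pow_zero] at hr; omega
        · omega
      have hx2 : orderOf (x ^ 2) = k := by
        rw [orderOf_pow' _ two_ne_zero, hx, Nat.coprime_iff_gcd_eq_one.mp
          (Nat.coprime_two_right.mpr (Nat.odd_iff.mpr hk2)), Nat.div_one]
      obtain ⟨a, ha⟩ : ∃ a : Matrix.ProjectiveSpecialLinearGroup (Fin 2) (GaloisField p j),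
          orderOf a = k := by
        rcases hiso with he | he <;> obtain ⟨e⟩ := he
        · exact ⟨e (⟨x, hxK⟩ ^ 2), by rw [e.orderOf_eq, ← Subgroup.orderOf_coe]; exact hx2⟩
        · obtain ⟨a, ha⟩ : e (⟨x, hxK⟩ ^ 2) ∈
              (Matrix.ProjectiveSpecialLinearGroup.toPGL (n := Fin 2) (R := GaloisField p j)).range := by
            rw [← imSL_eq, map_pow]
            exact Subgroup.sq_mem_of_index_two (index_imSL (p := p) hp2) _
          refine ⟨a, ?_⟩
          rw [← orderOf_injective _ Matrix.ProjectiveSpecialLinearGroup.toPGL_injective a, ha,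
            e.orderOf_eq, ← Subgroup.orderOf_coe]
          exact hx2
      have hub : 2 * k ≤ q0 + 1 := by
        have hgcd0 : Nat.gcd 2 (q0 - 1) = 2 := Nat.gcd_eq_left (by omega)
        have hd := orderOf_dvd_of_not_dvd (p := p) (x := a) (ha ▸ hpk)
        rw [ha, hcard0, hgcd0] at hd
        rcases hd with h | h <;> have := Nat.le_of_dvd (by omega) h <;> omega
      have hqq : q0 * q0 ≤ q := by
        rw [← hr, ← pow_two]
        exact Nat.pow_le_pow_right (by omega) hr2
      have : 3 * q0 ≤ q0 * q0 := Nat.mul_le_mul_right _ (by omega)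
      omega
    rw [hr1, pow_one] at hr
    have h1 := two_mul_card_PSL (F := GaloisField p j) hp2
    have h2' := two_mul_card_PSL (F := F) hp2
    rw [hcard0, hr] at h1
    rw [← hqdef] at h2'
    rcases hiso with he | he <;> obtain ⟨e⟩ := he
    · apply eq_top_of_card_eq
      rw [← Nat.card_congr e.toEquiv] at h1
      omega
    · exfalso
      have h0 := Nat.card_congr e.toEquiv
      rw [card_pgl_eq (p := p) hp2] at h0
      have := Subgroup.card_le_card_group K
      have := Nat.card_pos (α := PSL2)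
      omega

end Cfsg.Agent.Lib.BC77.CyclicCentPair
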