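import Cfsg.Agent.Lib.DicksonId.MaxPSLMain
import Cfsg.Agent.Lib.AutPSL.Card
import Cfsg.Agent.Lib.AutPSL.Descent

/-!
# Involutory automorphisms of `PSL₂(q)`, `q` odd, fixing no four-group

Such an automorphism is conjugation by a trace zero matrix of non-square determinant, and it fixes
an element generating a torus of odd order.
-/

set_option autoImplicit false

namespace Cfsg.Agent.Lib.BC77.CyclicCentPair

open Matrix Subgroup Cfsg.Agent.Lib.AutPSL

/-- `α` fixes two commuting involutions. -/
def HasFour {X : Type*} [Group X] (α : MulAut X) : Prop :=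
  ∃ v w : X, orderOf v = 2 ∧ orderOf w = 2 ∧ v ≠ w ∧ Commute v w ∧ α v = v ∧ α w = w

theorem HasFour.conj {X : Type*} [Group X] {α : MulAut X} (h : HasFour α) (γ : MulAut X) :
    HasFour (γ * α * γ⁻¹) := by
  obtain ⟨v, w, hv, hw, hne, hc, hfv, hfw⟩ := h
  have he : ∀ x, α x = x → (γ * α * γ⁻¹) (γ x) = γ x := by
    intro x hx
    simp [MulAut.mul_apply, hx]
  exact ⟨γ v, γ w, by rw [MulEquiv.orderOf_eq, hv], by rw [MulEquiv.orderOf_eq, hw],
    fun e => hne (γ.injective e), hc.map γ.toMonoidHom, he v hfv, he w hfw⟩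

variable {F : Type*} [Field F] [Fintype F] {p : ℕ} [hp : Fact p.Prime] [CharP F p]

local notation "SL2" => Matrix.SpecialLinearGroup (Fin 2) F
local notation "M2" => Matrix (Fin 2) (Fin 2) F
local notation "PSL2" => Matrix.ProjectiveSpecialLinearGroup (Fin 2) F

/-- `k = (q ± 1)/2`, the odd one. -/
def oddHalf (q : ℕ) : ℕ := if q % 4 = 1 then (q + 1) / 2 else (q - 1) / 2

omit [Fintype F] hp [CharP F p] in
theorem orderOf_two_of_sq {V : SL2} (h : (V : M2) * V = -1) (h01 : (V : PSL2) ≠ 1) :
    orderOf (V : PSL2) = 2 := by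
  refine orderOf_eq_prime ?_ h01
  rw [← QuotientGroup.mk_pow, QuotientGroup.eq_one_iff]
  refine (DicksonFull.mem_center_iff_smul _).mpr ⟨-1, ?_⟩
  rw [Matrix.SpecialLinearGroup.coe_pow, pow_two, h]
  simp

/-- A four-group fixed by all field automorphisms. -/
theorem exists_four_field (p : ℕ) [Fact p.Prime] [CharP F p] (h2 : (2 : F) ≠ 0) :
    ∃ J : SL2, (J : M2) = !![0, -1; 1, 0] ∧ ∃ P : SL2, orderOf (J : PSL2) = 2 ∧ orderOf (P : PSL2) = 2 ∧
      (J : PSL2) ≠ P ∧ Commute (J : PSL2) P ∧
      ∀ σ : F ≃+* F, fieldAut σ (J : PSL2) = J ∧ fieldAut σ (P : PSL2) = P := by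
  obtain ⟨a, b, hab⟩ := ZMod.sq_add_sq p (-1)
  set x := (ZMod.castHom dvd_rfl F) a
  set y := (ZMod.castHom dvd_rfl F) b
  have hxy : x ^ 2 + y ^ 2 = -1 := by rw [← map_pow, ← map_pow, ← map_add, hab, map_neg, map_one]
  have hfix : ∀ (σ : F ≃+* F) (c : ZMod p), σ ((ZMod.castHom dvd_rfl F) c) = (ZMod.castHom dvd_rfl F) c :=
    fun σ c => RingHom.congr_fun
      (Subsingleton.elim ((σ : F →+* F).comp (ZMod.castHom dvd_rfl F)) (ZMod.castHom dvd_rfl F)) c
  let J : SL2 := ⟨!![0, -1; 1, 0], by simp [Matrix.det_fin_two]⟩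
  let P : SL2 := ⟨!![x, y; y, -x], by
    simp [Matrix.det_fin_two]
    linear_combination (-1) * hxy⟩
  have hne1 : ∀ {Z : SL2}, (Z : M2) * Z = -1 → (Z : PSL2) ≠ 1 := by
    intro Z hZ he
    obtain ⟨c, hc⟩ := (DicksonFull.mem_center_iff_smul _).mp ((QuotientGroup.eq_one_iff _).mp he)
    have hd := Linear.sl2_det Z
    rw [hc] at hd hZ
    simp at hd
    have := congrFun (congrFun hZ 0) 0
    simp at this
    exact h2 (by linear_combination this - hd)
  have hJ : (J : M2) * J = -1 := by
    show !![(0 : F), -1; 1, 0] * !![(0 : F), -1; 1, 0] = -1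
    ext i j; fin_cases i <;> fin_cases j <;> simp [Matrix.mul_apply, Fin.sum_univ_two]
  have hP : (P : M2) * P = -1 := by
    show !![x, y; y, -x] * !![x, y; y, -x] = -1
    ext i j
    fin_cases i <;> fin_cases j <;> simp [Matrix.mul_apply, Fin.sum_univ_two] <;>
      first | linear_combination hxy | ring
  refine ⟨J, rfl, P, orderOf_two_of_sq hJ (hne1 hJ), orderOf_two_of_sq hP (hne1 hP), ?_, ?_, fun σ => ?_⟩
  · intro he
    obtain ⟨c, hc⟩ := (AutPSL.mk_eq_mk_iff J P).mp he
    have e00 := congrFun (congrFun hc 0) 0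
    have e01 := congrFun (congrFun hc 0) 1
    have e10 := congrFun (congrFun hc 1) 0
    simp [J, P] at e00 e01 e10
    have hc0 : c = 0 := by
      apply mul_left_cancel₀ h2
      linear_combination e01 - e10
    rw [hc0] at e10
    rw [e00, e10] at hxy
    exact one_ne_zero (α := F) (by linear_combination hxy)
  · show (J : PSL2) * P = P * J
    rw [← QuotientGroup.mk_mul, ← QuotientGroup.mk_mul]
    refine (AutPSL.mk_eq_mk_iff _ _).mpr ⟨-1, ?_⟩
    rw [Matrix.SpecialLinearGroup.coe_mul, Matrix.SpecialLinearGroup.coe_mul]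
    show !![x, y; y, -x] * !![(0 : F), -1; 1, 0] = (-1 : F) • (!![(0 : F), -1; 1, 0] * !![x, y; y, -x])
    ext i j; fin_cases i <;> fin_cases j <;> simp [Matrix.mul_apply, Fin.sum_univ_two]
  · constructor <;> rw [AutPSL.fieldAut_mk] <;> congr 1 <;> refine Subtype.ext ?_ <;>
      rw [AutPSL.coe_fieldSL] <;> ext i j <;> fin_cases i <;> fin_cases j <;>
        simp [J, P, x, y] <;> exact hfix σ _

/-- An involutory automorphism fixing no four-group is diagonal. -/
theorem exists_gl_of_not_hasFour (hp2 : p ≠ 2) {α : MulAut PSL2} (hα : α * α = 1)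
    (hno : ¬ HasFour α) :
    ∃ g : GL (Fin 2) F, α = conjAut g ∧ Matrix.trace (g : M2) = 0 ∧
      ¬ IsSquare (g : M2).det := by
  have h2 : (2 : F) ≠ 0 := DicksonId.two_ne_zero_of_char (p := p) hp2
  obtain ⟨J, hJ, P, hJ2, hP2, hne, hcomm, hfld⟩ := exists_four_field p h2
  obtain ⟨g, σ, γ, hγ, hdec⟩ := exists_decomp le_rfl α
  obtain rfl : γ = 1 := hγ.resolve_right fun h => by omega
  rw [mul_one] at hdec
  subst hdec
  by_cases hσ : σ = 1
  swap
  · exfalso
    have hsq : σ ^ 2 = 1 := by
      have h := hα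
      rw [← pow_two, conjAut_mul_fieldAut_pow] at h
      exact (eq_one_of_conj_field le_rfl h).2
    obtain ⟨c, hc⟩ := exists_conj_of_pow_eq_one le_rfl (orderOf_eq_prime hsq hσ) two_pos
      (g := g) (by rw [pow_two]; exact hα)
    apply hno
    rw [hc]
    exact HasFour.conj ⟨(J : PSL2), (P : PSL2), hJ2, hP2, hne, hcomm, (hfld σ).1, (hfld σ).2⟩ _
  subst hσ
  rw [map_one, mul_one] at hα hno ⊢
  refine ⟨g, rfl, ?_, ?_⟩
  · by_contra htr
    apply hno
    rw [← map_mul] at hα
    obtain ⟨c, hc⟩ := exists_scalar_of_conjAut_eq_one le_rfl hα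
    have hsc := congrArg (fun u : GL (Fin 2) F => (u : M2)) hc
    have hsc' : (g : M2) * (g : M2) = (c : F) • (1 : M2) := by
      rw [← Units.val_mul, hsc]
      ext i j; fin_cases i <;> fin_cases j <;> simp
    have e00 := congrFun (congrFun hsc' 0) 0
    have e01 := congrFun (congrFun hsc' 0) 1
    have e10 := congrFun (congrFun hsc' 1) 0
    have e11 := congrFun (congrFun hsc' 1) 1
    rw [Matrix.trace_fin_two] at htr
    simp [Matrix.mul_apply, Fin.sum_univ_two] at e00 e01 e10 e11
    have h01 : (g : M2) 0 1 = 0 := by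
      apply mul_left_cancel₀ htr
      linear_combination e01
    have h10 : (g : M2) 1 0 = 0 := by
      apply mul_left_cancel₀ htr
      linear_combination e10
    have hd : (g : M2) 0 0 = (g : M2) 1 1 := by
      apply mul_left_cancel₀ htr
      rw [h01, h10] at e00 e11
      linear_combination e00 - e11
    have hg0 : (g : M2) 0 0 ≠ 0 := fun h => htr (by rw [← hd, h, add_zero])
    have hgs : g = GeneralLinearGroup.scalar (Fin 2) (Units.mk0 _ hg0) := by
      refine Units.ext (Matrix.ext fun i j => ?_)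
      fin_cases i <;> fin_cases j <;> simp [h01, h10, hd]
    rw [hgs, conjAut_scalar]
    exact ⟨J, P, hJ2, hP2, hne, hcomm, rfl, rfl⟩
  · intro hsq
    apply hno
    obtain ⟨s, hs⟩ := hsq
    have hs0 : s ≠ 0 := fun h => GeneralLinearGroup.det_ne_zero g (by rw [hs, h, zero_mul])
    let U : SL2 := ⟨s⁻¹ • (g : M2), by
      rw [Matrix.det_smul, Fintype.card_fin, hs]; field_simp⟩
    have hgU : g = GeneralLinearGroup.scalar (Fin 2) (Units.mk0 s hs0) *
        Matrix.SpecialLinearGroup.toGL U := by
      refine Units.ext ?_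
      rw [Units.val_mul]
      have : ((GeneralLinearGroup.scalar (Fin 2) (Units.mk0 s hs0) : GL (Fin 2) F) : M2) = s • (1 : M2) := by
        ext i j; fin_cases i <;> fin_cases j <;> simp
      rw [this, Matrix.smul_mul, one_mul]
      show (g : M2) = s • (s⁻¹ • (g : M2))
      rw [smul_smul, mul_inv_cancel₀ hs0, one_smul]
    have hconj : (conjAut g : MulAut PSL2) = MulAut.conj (U : PSL2) := by
      rw [hgU, map_mul, conjAut_scalar, one_mul, conjAut_toGL]
    rw [hconj] at hα ⊢
    by_cases hU1 : (U : PSL2) = 1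
    · rw [hU1, map_one]
      exact ⟨J, P, hJ2, hP2, hne, hcomm, rfl, rfl⟩
    have hUU : orderOf (U : PSL2) = 2 := by
      refine orderOf_eq_prime ?_ hU1
      rw [pow_two]
      rw [← map_mul] at hα
      have hcen : (U : PSL2) * (U : PSL2) ∈ center PSL2 := mem_center_iff.2 fun a => by
        have := DFunLike.congr_fun hα a
        rw [MulAut.conj_apply, MulAut.one_apply] at this
        calc a * ((U : PSL2) * (U : PSL2)) = ((U : PSL2) * (U : PSL2) * a * ((U : PSL2) * (U : PSL2))⁻¹) * ((U : PSL2) * (U : PSL2)) := by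
              rw [this]
          _ = (U : PSL2) * (U : PSL2) * a := by group
      obtain ⟨a, ha⟩ := QuotientGroup.mk_surjective ((U : PSL2) * (U : PSL2))
      by_contra hne1
      -- the centre of `PSL₂` is trivial
      obtain ⟨hmem, -⟩ := eq_one_of_conj_field (F := F) (n := 2) le_rfl
        (g := Matrix.SpecialLinearGroup.toGL a) (σ := 1) (by
          rw [map_one, mul_one, conjAut_toGL, ha]
          refine MulEquiv.ext fun z => ?_
          rw [MulAut.conj_apply, MulAut.one_apply, ← mem_center_iff.1 hcen z, mul_inv_cancel_right])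
      rw [GeneralLinearGroup.center_eq_range_scalar] at hmem
      obtain ⟨r, hr⟩ := hmem
      refine hne1 ?_
      rw [← ha, QuotientGroup.eq_one_iff]
      refine (DicksonFull.mem_center_iff_smul _).mpr ⟨r, ?_⟩
      have := congrArg (fun u : GL (Fin 2) F => (u : M2)) hr
      rw [Matrix.SpecialLinearGroup.coe_GL_coe_matrix] at this
      rw [← this]
      ext i j; fin_cases i <;> fin_cases j <;> simp
    obtain ⟨c, hc⟩ := DicksonId.exists_conj_J h2 (W := U) (DicksonId.trace_of_orderOf_two hUU)
    have hcJ : conjAut c (U : PSL2) = (J : PSL2) := by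
      rw [AutPSL.conjAut_mk, show conjSL c U = J from Subtype.ext (hc.trans hJ.symm)]
    have hfixJ : HasFour (MulAut.conj (J : PSL2)) :=
      ⟨J, P, hJ2, hP2, hne, hcomm, by simp [MulAut.conj_apply],
        by rw [MulAut.conj_apply, hcomm.eq]; exact mul_inv_cancel_right (P : PSL2) (J : PSL2)⟩
    have := hfixJ.conj (conjAut c)⁻¹
    convert this using 1
    ext z
    rw [← hcJ, MulAut.mul_apply, MulAut.mul_apply, MulAut.conj_apply, MulAut.conj_apply, inv_inv,
      map_mul, map_mul, map_inv]
    simp only [MulAut.inv_apply_self]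

omit hp [CharP F p] in
theorem not_isSquare_mul_iff (h2 : (2 : F) ≠ 0) {a b : F} (ha : a ≠ 0) (hb : b ≠ 0)
    (na : ¬ IsSquare a) (nb : ¬ IsSquare b) : IsSquare (a * b) := by
  have hc : ringChar F ≠ 2 := fun h => h2 (by
    have := ringChar.Nat.cast_ringChar (R := F)
    rw [h] at this
    exact_mod_cast this)
  rw [FiniteField.isSquare_iff hc (mul_ne_zero ha hb), mul_pow]
  rw [FiniteField.isSquare_iff hc ha] at na
  rw [FiniteField.isSquare_iff hc hb] at nb
  rw [(FiniteField.pow_dichotomy hc ha).resolve_left na, (FiniteField.pow_dichotomy hc hb).resolve_left nb]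
  ring

/-- A fixed element generating the torus of odd order. -/
theorem exists_fixed_torus (hp2 : p ≠ 2) (h5 : 5 ≤ Fintype.card F) {g : GL (Fin 2) F}
    (htr : Matrix.trace (g : M2) = 0) (hdet : ¬ IsSquare (g : M2).det) :
    ∃ (Y : SL2) (a b : F), (Y : M2) = a • 1 + b • (g : M2) ∧ b ≠ 0 ∧
      orderOf (Y : PSL2) = oddHalf (Fintype.card F) := by
  have h2 : (2 : F) ≠ 0 := DicksonId.two_ne_zero_of_char (p := p) hp2
  set q := Fintype.card F with hqdef
  have hodd : q % 2 = 1 := by
    obtain ⟨f, hf, hq⟩ := Linear.exists_card_eq_pow (F := F) p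
    rw [hqdef, hq]
    exact Nat.odd_iff.mp (hp.out.odd_of_ne_two hp2).pow
  set δ := (g : M2).det with hδ
  have hδ0 : δ ≠ 0 := GeneralLinearGroup.det_ne_zero g
  obtain ⟨X, hX, hXp, hd0, hns⟩ : ∃ X : SL2, orderOf (X : PSL2) = oddHalf q ∧ (X : PSL2) ^ p ≠ 1 ∧
      1 - (Matrix.trace (X : M2) / 2) ^ 2 ≠ 0 ∧ ¬ IsSquare (1 - (Matrix.trace (X : M2) / 2) ^ 2) := by
    have hp1 : ∀ {x : PSL2} {m : ℕ}, orderOf x = m → 3 ≤ m → ¬ p ∣ m → x ^ p ≠ 1 := by
      intro x m hm h3 hpm h
      rcases (Nat.dvd_prime hp.out).mp (hm ▸ orderOf_dvd_of_pow_eq_one h) with e | e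
      · omega
      · exact hpm e.symm.dvd
    have hpm : ∀ m, (2 * m = q - 1 ∨ 2 * m = q + 1) → ¬ p ∣ m := by
      intro m hm hd
      obtain ⟨f, hf, hq⟩ := Linear.exists_card_eq_pow (F := F) p
      have h1 : p ∣ q := (show q = p ^ f from hq) ▸ dvd_pow_self p hf.ne'
      rcases hm with e | e
      · have := Nat.dvd_sub h1 (e ▸ hd.mul_left 2)
        rw [Nat.sub_sub_self (by omega)] at this
        exact hp.out.not_dvd_one this
      · exact hp.out.not_dvd_one ((Nat.dvd_add_right h1).mp (e ▸ hd.mul_left 2))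
    unfold oddHalf
    split_ifs with h4
    · obtain ⟨-, ⟨y, hy⟩, -⟩ := RecogThree.PSL2Orders.exists_orders (F := F) p
      rw [DicksonId.dd_eq_gcd (p := p), DicksonId.gcd_two_eq (p := p), if_neg hp2, ← hqdef] at hy
      obtain ⟨X, rfl⟩ := QuotientGroup.mk_surjective y
      replace hy : orderOf (X : PSL2) = (q + 1) / 2 := hy
      have hm := hpm ((q + 1) / 2) (by omega)
      have hm3 : 3 ≤ (q + 1) / 2 := by omega
      obtain ⟨i, hi⟩ := (FiniteField.isSquare_neg_one_iff (F := F)).mpr (by omega)
      have hnoeig : ∀ r : F, r ^ 2 ≠ (Matrix.trace (X : M2) / 2) ^ 2 - 1 := by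
        intro r hr
        have hμ : Linear.IsEigen (K := F) X (Matrix.trace (X : M2) / 2 + r) := by
          unfold Linear.IsEigen
          simp only [Algebra.algebraMap_self, RingHom.id_apply]
          field_simp
          field_simp at hr
          linear_combination hr
        have hμ0 := hμ.ne_zero
        have hpow : (X : PSL2) ^ (q - 1) = 1 := by
          by_cases hμ2 : (Matrix.trace (X : M2) / 2 + r) ^ 2 = 1
          · exfalso
            exact hp1 hy hm3 hm (by
              rw [← QuotientGroup.mk_pow, QuotientGroup.eq_one_iff]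
              exact (DicksonFull.pow_mem_center_iff (RingHom.id F) p
                (fun c hc => by
                  have h1 := DicksonFull.mk_eq_one_of_smul hc
                  rw [h1, orderOf_one] at hy
                  omega) (by
                  show _ = _
                  simpa [Linear.IsEigen] using hμ)).mpr hμ2)
          · rw [← QuotientGroup.mk_pow,
              show X ^ (q - 1) = 1 from orderOf_dvd_iff_pow_eq_one.mp (by
                rw [Linear.orderOf_eq_orderOf_eigen hμ hμ2]
                exact orderOf_dvd_of_pow_eq_one (FiniteField.pow_card_sub_one_eq_one _ hμ0))]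
            rfl
        have hd := orderOf_dvd_of_pow_eq_one hpow
        rw [hy] at hd
        obtain ⟨c, hc⟩ := hd
        rcases Nat.lt_or_ge c 2 with h | h
        · interval_cases c <;> omega
        · have := Nat.mul_le_mul_left ((q + 1) / 2) h
          omega
      refine ⟨X, hy, hp1 hy hm3 hm, fun h => hnoeig 0 (by linear_combination h), ?_⟩
      rintro ⟨r, hr⟩
      exact hnoeig (i * r) (by linear_combination (-r ^ 2) * hi + hr)
    · obtain ⟨u, hu⟩ := IsCyclic.exists_ofOrder_eq_natCard (α := Fˣ)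
      rw [Nat.card_units, Nat.card_eq_fintype_card, ← hqdef] at hu
      have hu0 : (u : F) ≠ 0 := u.ne_zero
      let X : SL2 := ⟨!![(u : F), 0; 0, (u : F)⁻¹], by simp [Matrix.det_fin_two, mul_inv_cancel₀ hu0]⟩
      have hXpow : ∀ m : ℕ, ((X ^ m : SL2) : M2) = !![(u : F) ^ m, 0; 0, ((u : F)⁻¹) ^ m] := by
        intro m
        induction m with
        | zero => ext i j; fin_cases i <;> fin_cases j <;> simp
        | succ m ih =>
          rw [pow_succ, Matrix.SpecialLinearGroup.coe_mul, ih]
          show _ * !![(u : F), 0; 0, (u : F)⁻¹] = _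
          ext i j; fin_cases i <;> fin_cases j <;> simp [Matrix.mul_apply, Fin.sum_univ_two, pow_succ]
      have horder : orderOf (X : PSL2) = (q - 1) / 2 := by
        have key : ∀ m : ℕ, (X : PSL2) ^ m = 1 ↔ q - 1 ∣ 2 * m := by
          intro m
          rw [← QuotientGroup.mk_pow, QuotientGroup.eq_one_iff, DicksonFull.mem_center_iff_smul, hXpow,
            ← hu, orderOf_dvd_iff_pow_eq_one]
          constructor
          · rintro ⟨c, hc⟩
            have e00 := congrFun (congrFun hc 0) 0
            have e11 := congrFun (congrFun hc 1) 1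
            simp at e00 e11
            apply Units.ext
            rw [Units.val_pow_eq_pow_val, Units.val_one, two_mul, pow_add]
            calc (u : F) ^ m * (u : F) ^ m = (u : F) ^ m * ((u : F)⁻¹) ^ m := by
                  rw [inv_pow, e11, ← e00]
              _ = 1 := by rw [← mul_pow, mul_inv_cancel₀ hu0, one_pow]
          · intro h
            have h' := congrArg (fun z : Fˣ => (z : F)) h
            simp only [Units.val_pow_eq_pow_val, Units.val_one] at h'
            refine ⟨(u : F) ^ m, ?_⟩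
            have hinv : ((u : F)⁻¹) ^ m = (u : F) ^ m := by
              rw [inv_pow]
              refine inv_eq_of_mul_eq_one_right ?_
              rw [← pow_add, ← two_mul, h']
            ext i j; fin_cases i <;> fin_cases j <;> simp [← inv_pow, hinv]
        refine Nat.dvd_antisymm (orderOf_dvd_of_pow_eq_one ((key _).2 ⟨1, by omega⟩))
          (Nat.dvd_of_mul_dvd_mul_left two_pos ?_)
        rw [Nat.mul_div_cancel' (by omega)]
        exact (key _).1 (pow_orderOf_eq_one _)
      have htrX : Matrix.trace (X : M2) = (u : F) + (u : F)⁻¹ := by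
        rw [Matrix.trace_fin_two]; simp [X]
      have hm := hpm ((q - 1) / 2) (by omega)
      have heq : 1 - (Matrix.trace (X : M2) / 2) ^ 2 = -(((u : F) - (u : F)⁻¹) / 2) ^ 2 := by
        rw [htrX]
        field_simp
        ring
      have hw : ((u : F) - (u : F)⁻¹) / 2 ≠ 0 := by
        intro h
        rw [div_eq_zero_iff, sub_eq_zero] at h
        have h1 : (u : F) * u = 1 := by
          nth_rewrite 2 [h.resolve_right h2]
          exact mul_inv_cancel₀ hu0
        have : orderOf u ∣ 2 := orderOf_dvd_of_pow_eq_one (Units.ext (by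
          rw [pow_two, Units.val_mul, h1, Units.val_one]))
        have := Nat.le_of_dvd two_pos this
        omega
      refine ⟨X, horder, hp1 horder (by omega) hm, heq ▸ neg_ne_zero.2 (pow_ne_zero 2 hw), ?_⟩
      rw [heq]
      rintro ⟨r, hr⟩
      have : IsSquare (-1 : F) := ⟨r / (((u : F) - (u : F)⁻¹) / 2), by
        rw [div_mul_div_comm, ← hr, pow_two, neg_div, div_self (mul_ne_zero hw hw)]⟩
      have := (FiniteField.isSquare_neg_one_iff (F := F)).mp this
      omega
  set a := Matrix.trace (X : M2) / 2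
  obtain ⟨e, he⟩ := not_isSquare_mul_iff h2 hd0 hδ0 hns hdet
  set b := e / δ
  have hb : b * b * δ = 1 - a ^ 2 := by
    show e / δ * (e / δ) * δ = _
    field_simp
    linear_combination (-1) * he
  have hb0 : b ≠ 0 := fun h => hd0 (by rw [← hb, h]; ring)
  have hg11 : (g : M2) 1 1 = -(g : M2) 0 0 := by
    rw [Matrix.trace_fin_two] at htr
    linear_combination htr
  let Y : SL2 := ⟨a • 1 + b • (g : M2), by
    have hdg : δ = (g : M2) 0 0 * (g : M2) 1 1 - (g : M2) 0 1 * (g : M2) 1 0 := Matrix.det_fin_two _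
    rw [Matrix.det_fin_two]
    simp only [Matrix.add_apply, Matrix.smul_apply, Matrix.one_apply, smul_eq_mul]
    norm_num
    rw [hg11] at hdg ⊢
    linear_combination hb - b * b * hdg⟩
  refine ⟨Y, a, b, rfl, hb0, ?_⟩
  have hY1 : (Y : PSL2) ≠ 1 := by
    intro h
    obtain ⟨c, hc⟩ := (DicksonFull.mem_center_iff_smul _).mp ((QuotientGroup.eq_one_iff _).mp h)
    have e01 := congrFun (congrFun hc 0) 1
    have e10 := congrFun (congrFun hc 1) 0
    have e00 := congrFun (congrFun hc 0) 0
    have e11 := congrFun (congrFun hc 1) 1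
    simp [Y, hb0] at e01 e10 e00 e11
    rw [hg11] at e11
    have : (g : M2) 0 0 = 0 := by
      apply mul_left_cancel₀ (mul_ne_zero h2 hb0)
      linear_combination e00 - e11
    exact hδ0 (by rw [hδ, Matrix.det_fin_two, e01, e10, this]; ring)
  have htrY : Matrix.trace (Y : M2) = Matrix.trace (X : M2) := by
    show Matrix.trace (a • (1 : M2) + b • (g : M2)) = _
    rw [Matrix.trace_add, Matrix.trace_smul, Matrix.trace_smul, htr, Matrix.trace_one]
    simp [a]
    field_simp
  obtain ⟨Q, hQ⟩ := DicksonId.exists_conj_of_trace (p := p) hXp hY1 htrY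
  rw [← hX, ← hQ, QuotientGroup.mk_mul, QuotientGroup.mk_mul, QuotientGroup.mk_inv,
    ← MulAut.conj_apply, MulEquiv.orderOf_eq]

end Cfsg.Agent.Lib.BC77.CyclicCentPair
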